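import Groth.Prelude.Def_W4c5flasquetoriphsGLat
import Mathlib

/-!
# G-lattices: permutation modules, flasque and coflasque modules (helper18)

Basic lemmas for the rows on flasque / coflasque resolutions:
* the concrete permutation representation `permRep S` on `S →₀ ℤ` for a `G`-set `S`;
* it is coflasque (for finite subgroups) and flasque;
* `H¹` and `Ĥ⁻¹` are "middle exact";
* invariants, norms.
-/

open GLat

namespace Helper18.GLat

variable {G : Type} [Group G]

section Perm
variable (S : Type) [MulAction G S]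

/-- The permutation representation on `S →₀ ℤ`. -/
noncomputable def permRep : Representation ℤ G (S →₀ ℤ) where
  toFun g := Finsupp.lmapDomain ℤ ℤ (g • ·)
  map_one' := by ext; simp
  map_mul' x y := by ext; simp [mul_smul]

variable {S}

@[simp] lemma permRep_single (g : G) (s : S) (r : ℤ) :
    permRep S g (Finsupp.single s r) = Finsupp.single (g • s) r := by
  simp [permRep]

lemma permRep_apply (g : G) (f : S →₀ ℤ) (s : S) : permRep S g f s = f (g⁻¹ • s) := by
  have : s = g • (g⁻¹ • s) := by simp
  conv_lhs => rw [this]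
  exact Finsupp.mapDomain_apply (MulAction.injective g) f _

lemma isPermutation_permRep : IsPermutation (permRep (G := G) S) :=
  ⟨S, Finsupp.basisSingleOne, fun g i => ⟨g • i, by simp⟩⟩

end Perm

section Norm
variable {M : Type} [AddCommGroup M] (ρ : Representation ℤ G M) (H : Subgroup G) [Fintype H]

/-- The norm `∑_{h ∈ H} h` as a linear map. -/
noncomputable def normLin : M →ₗ[ℤ] M := ∑ h : H, ρ (h : G)

lemma normLin_apply (m : M) : normLin ρ H m = ∑ h : H, ρ (h : G) m := by
  simp [normLin, LinearMap.sum_apply]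

lemma finsum_eq (m : M) : (∑ᶠ h : H, ρ (h : G) m) = normLin ρ H m := by
  rw [finsum_eq_sum_of_fintype, normLin_apply]

lemma normLin_rho (h : H) (m : M) : normLin ρ H (ρ (h : G) m) = normLin ρ H m := by
  rw [normLin_apply, normLin_apply]
  refine Fintype.sum_equiv (Equiv.mulRight h) _ _ (fun x => ?_)
  simp [map_mul]

lemma rho_normLin (h : H) (m : M) : ρ (h : G) (normLin ρ H m) = normLin ρ H m := by
  rw [normLin_apply, map_sum]
  refine Fintype.sum_equiv (Equiv.mulLeft h) _ _ (fun x => ?_)
  simp [map_mul]

lemma normLin_sub (h : H) (y : M) : normLin ρ H (ρ (h : G) y - y) = 0 := by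
  rw [map_sub, normLin_rho, sub_self]

lemma normLin_of_inv (m : M) (hm : ∀ h : H, ρ (h : G) m = m) :
    normLin ρ H m = (Fintype.card H : ℤ) • m := by
  rw [normLin_apply]
  simp [hm, Finset.sum_const, Finset.card_univ]

/-- The augmentation submodule. -/
def augSpan : Submodule ℤ M :=
  Submodule.span ℤ {x : M | ∃ (h : H) (y : M), x = ρ (h : G) y - y}

omit [Fintype H] in
lemma sub_mem_augSpan (h : H) (y : M) : ρ (h : G) y - y ∈ augSpan ρ H :=
  Submodule.subset_span ⟨h, y, rfl⟩

lemma normLin_eq_zero_of_mem_augSpan {x : M} (hx : x ∈ augSpan ρ H) : normLin ρ H x = 0 := by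
  induction hx using Submodule.span_induction with
  | mem x hx => obtain ⟨h, y, rfl⟩ := hx; exact normLin_sub ρ H h y
  | zero => simp
  | add x y _ _ hx hy => rw [map_add, hx, hy, add_zero]
  | smul a x _ hx => rw [map_smul, hx, smul_zero]

end Norm

section Equivariant
variable {M N : Type} [AddCommGroup M] [AddCommGroup N]
  {ρ : Representation ℤ G M} {σ : Representation ℤ G N} {f : M →ₗ[ℤ] N}

lemma equiv_normLin (hf : IsEquivariant ρ σ f) (H : Subgroup G) [Fintype H] (m : M) :
    f (normLin ρ H m) = normLin σ H (f m) := by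
  rw [normLin_apply, normLin_apply, map_sum]
  exact Finset.sum_congr rfl (fun h _ => hf h m)

lemma equiv_map_augSpan_le (hf : IsEquivariant ρ σ f) (H : Subgroup G) :
    (augSpan ρ H).map f ≤ augSpan σ H := by
  rw [augSpan, Submodule.map_span, Submodule.span_le]
  rintro _ ⟨x, ⟨h, y, rfl⟩, rfl⟩
  rw [map_sub, hf]
  exact sub_mem_augSpan σ H h (f y)

lemma equiv_augSpan_le_map (hf : IsEquivariant ρ σ f) (hs : Function.Surjective f)
    (H : Subgroup G) : augSpan σ H ≤ (augSpan ρ H).map f := by
  rw [augSpan, Submodule.span_le]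
  rintro _ ⟨h, y, rfl⟩
  obtain ⟨x, rfl⟩ := hs y
  exact ⟨ρ (h : G) x - x, sub_mem_augSpan ρ H h x, by rw [map_sub, hf]⟩

end Equivariant

end Helper18.GLat
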