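import Groth.Agent.Lib.Helper18.GLat.Embed

/-!
# Coflasque resolutions (helper18): pull a coflasque cover back along an embedding into a
permutation lattice.
-/

open GLat

namespace Helper18.GLat

variable {G : Type} [Group G]

/-- Coflasque resolution of a lattice: `0 → A → Q → P → 0`. -/
theorem coflasque_resolution [Finite G] (A : Type) [AddCommGroup A] [Module.Finite ℤ A]
    [Module.Free ℤ A] (ρ : Representation ℤ G A) :
    ∃ (Q : Type) (_ : AddCommGroup Q) (P : Type) (_ : AddCommGroup P)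
      (_ : Module.Finite ℤ Q) (_ : Module.Free ℤ Q) (_ : Module.Finite ℤ P) (_ : Module.Free ℤ P)
      (σ : Representation ℤ G Q) (τ : Representation ℤ G P) (i : A →ₗ[ℤ] Q) (π : Q →ₗ[ℤ] P),
      GLat.IsEquivariant ρ σ i ∧ GLat.IsEquivariant σ τ π ∧ Function.Injective i ∧ Function.Surjective π ∧
      LinearMap.range i = LinearMap.ker π ∧ GLat.IsCoflasque σ ∧ GLat.IsPermutation τ := by
  classical
  obtain ⟨S, hact, hfin, i, hiequiv, hinj, -, -⟩ := exists_perm_embedding ρ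
  set W : Submodule ℤ (S →₀ ℤ) := LinearMap.range i with hW
  have hle : ∀ g : G, W ≤ W.comap (permRep (G := G) S g) := by
    rintro g _ ⟨a, rfl⟩
    exact ⟨ρ g a, hiequiv g a⟩
  set γ : Representation ℤ G ((S →₀ ℤ) ⧸ W) := (permRep (G := G) S).quotient W hle with hγ
  have hcequiv : IsEquivariant (permRep (G := G) S) γ W.mkQ := fun g m => rfl
  have hcsurj : Function.Surjective W.mkQ := Submodule.mkQ_surjective W
  obtain ⟨Q', iQ', P', iP', fQ', frQ', fP', frP', σ', τ', i', π', hi'equiv, hπ'equiv, hi'inj, hπ'surj,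
    hex', hperm, hcofl, -, -⟩ := coflasque_cover ((S →₀ ℤ) ⧸ W) γ
  -- the pullback
  set D : ((S →₀ ℤ) × P') →ₗ[ℤ] ((S →₀ ℤ) ⧸ W) :=
    W.mkQ ∘ₗ LinearMap.fst ℤ _ _ - π' ∘ₗ LinearMap.snd ℤ _ _ with hD
  have hDapp : ∀ x : (S →₀ ℤ) × P', D x = W.mkQ x.1 - π' x.2 := fun x => rfl
  set Q : Submodule ℤ ((S →₀ ℤ) × P') := LinearMap.ker D with hQ
  have hmemQ : ∀ x : (S →₀ ℤ) × P', x ∈ Q ↔ W.mkQ x.1 = π' x.2 := by
    intro x; rw [hQ, LinearMap.mem_ker, hDapp, sub_eq_zero]
  set R : Representation ℤ G ((S →₀ ℤ) × P') := (permRep (G := G) S).prod τ' with hR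
  have hRapp : ∀ (g : G) (x : (S →₀ ℤ) × P'), R g x = (permRep S g x.1, τ' g x.2) := fun g x => rfl
  have hQle : ∀ g : G, Q ≤ Q.comap (R g) := by
    intro g x hx
    rw [Submodule.mem_comap, hmemQ, hRapp]
    rw [hmemQ] at hx
    show W.mkQ (permRep S g x.1) = π' (τ' g x.2)
    rw [hcequiv, hπ'equiv, hx]
  set σ : Representation ℤ G Q := R.subrepresentation Q hQle with hσ
  have hσapp : ∀ (g : G) (x : Q), ((σ g x : Q) : (S →₀ ℤ) × P') = R g x.1 := fun g x => rfl
  -- the maps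
  have hjmem : ∀ a : A, ((i a, 0) : (S →₀ ℤ) × P') ∈ Q := by
    intro a
    rw [hmemQ]
    show W.mkQ (i a) = π' 0
    rw [map_zero, Submodule.mkQ_apply, Submodule.Quotient.mk_eq_zero]
    exact ⟨a, rfl⟩
  set j : A →ₗ[ℤ] Q := LinearMap.codRestrict Q (LinearMap.inl ℤ _ _ ∘ₗ i) hjmem with hj
  have hjapp : ∀ a : A, ((j a : Q) : (S →₀ ℤ) × P') = (i a, 0) := fun a => rfl
  set pr : Q →ₗ[ℤ] P' := LinearMap.snd ℤ _ _ ∘ₗ Q.subtype with hpr
  have hprapp : ∀ x : Q, pr x = x.1.2 := fun x => rfl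
  set pr1 : Q →ₗ[ℤ] (S →₀ ℤ) := LinearMap.fst ℤ _ _ ∘ₗ Q.subtype with hpr1
  have hpr1app : ∀ x : Q, pr1 x = x.1.1 := fun x => rfl
  have hkmem : ∀ q : Q', ((0, i' q) : (S →₀ ℤ) × P') ∈ Q := by
    intro q
    rw [hmemQ]
    show W.mkQ 0 = π' (i' q)
    have : i' q ∈ LinearMap.ker π' := hex' ▸ LinearMap.mem_range_self i' q
    rw [map_zero, LinearMap.mem_ker.1 this]
  set k : Q' →ₗ[ℤ] Q := LinearMap.codRestrict Q (LinearMap.inr ℤ _ _ ∘ₗ i') hkmem with hk
  have hkapp : ∀ q : Q', ((k q : Q) : (S →₀ ℤ) × P') = (0, i' q) := fun q => rfl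
  haveI : IsNoetherian ℤ ((S →₀ ℤ) × P') := isNoetherian_of_isNoetherianRing_of_finite ℤ _
  -- exactness statements
  have hjequiv : IsEquivariant ρ σ j := by
    intro g a
    apply Subtype.ext
    rw [hσapp, hjapp, hjapp, hRapp]
    show (i (ρ g a), (0 : P')) = (permRep S g (i a), τ' g 0)
    rw [hiequiv, map_zero]
  have hprequiv : IsEquivariant σ τ' pr := fun g x => rfl
  have hjinj : Function.Injective j := by
    intro a b hab
    have := congrArg (fun x : Q => x.1.1) hab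
    exact hinj this
  have hprsurj : Function.Surjective pr := by
    intro p'
    obtain ⟨l, hl⟩ := hcsurj (π' p')
    exact ⟨⟨(l, p'), (hmemQ _).2 hl⟩, rfl⟩
  have hexj : LinearMap.range j = LinearMap.ker pr := by
    ext x
    constructor
    · rintro ⟨a, rfl⟩
      rw [LinearMap.mem_ker, hprapp, hjapp]
    · intro hx
      rw [LinearMap.mem_ker, hprapp] at hx
      have hx2 := (hmemQ x.1).1 x.2
      rw [hx, map_zero, Submodule.mkQ_apply, Submodule.Quotient.mk_eq_zero] at hx2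
      obtain ⟨a, ha⟩ := hx2
      refine ⟨a, Subtype.ext ?_⟩
      rw [hjapp]
      exact Prod.ext ha hx.symm
  -- `Q` is coflasque
  have hkequiv : IsEquivariant σ' σ k := by
    intro g q
    apply Subtype.ext
    rw [hσapp, hkapp, hkapp, hRapp]
    show ((0 : S →₀ ℤ), i' (σ' g q)) = (permRep S g 0, τ' g (i' q))
    rw [hi'equiv, map_zero]
  have hpr1equiv : IsEquivariant σ (permRep (G := G) S) pr1 := fun g x => rfl
  have hkinj : Function.Injective k := by
    intro a b hab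
    have := congrArg (fun x : Q => x.1.2) hab
    exact hi'inj this
  have hpr1surj : Function.Surjective pr1 := by
    intro l
    obtain ⟨p', hp'⟩ := hπ'surj (W.mkQ l)
    exact ⟨⟨(l, p'), (hmemQ _).2 hp'.symm⟩, rfl⟩
  have hexk : LinearMap.range k = LinearMap.ker pr1 := by
    ext x
    constructor
    · rintro ⟨a, rfl⟩
      rw [LinearMap.mem_ker, hpr1app, hkapp]
    · intro hx
      rw [LinearMap.mem_ker, hpr1app] at hx
      have hx2 := (hmemQ x.1).1 x.2
      rw [hx, map_zero] at hx2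
      have hx3 : x.1.2 ∈ LinearMap.range i' := by
        rw [hex', LinearMap.mem_ker, ← hx2]
      obtain ⟨q, hq⟩ := hx3
      refine ⟨q, Subtype.ext ?_⟩
      rw [hkapp]
      exact Prod.ext hx.symm hq
  have hQcofl : IsCoflasque σ :=
    isCoflasque_of_exact hkequiv hpr1equiv hkinj hpr1surj hexk hcofl permRep_isCoflasque
  exact ⟨Q, inferInstance, P', iP', inferInstance, inferInstance, fP', frP', σ, τ', j, pr,
    hjequiv, hprequiv, hjinj, hprsurj, hexj, hQcofl, hperm⟩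

end Helper18.GLat
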