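import Groth.Agent.Lib.Helper18.GLat.Exact

/-!
# Coflasque covers by permutation modules (helper18)
-/

open GLat

namespace Helper18.GLat

variable {G : Type} [Group G]

section
variable {A : Type} [AddCommGroup A] (ρ : Representation ℤ G A)

/-- The `H`-invariants as a submodule. -/
def inv (H : Subgroup G) : Submodule ℤ A where
  carrier := {a | ∀ h : H, ρ (h : G) a = a}
  add_mem' := fun ha hb h => by rw [map_add, ha h, hb h]
  zero_mem' := fun h => map_zero _
  smul_mem' := fun c a ha h => by rw [map_smul, ha h]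

lemma mem_inv {H : Subgroup G} {a : A} : a ∈ inv ρ H ↔ ∀ h : H, ρ (h : G) a = a := Iff.rfl

/-- A finite `G`-stable subset containing generators of all the modules of invariants. -/
theorem exists_stable_gens [Finite G] [Module.Finite ℤ A] :
    ∃ S : Set A, S.Finite ∧ (∀ (g : G), ∀ s ∈ S, ρ g s ∈ S) ∧
      ∀ H : Subgroup G, inv ρ H ≤ Submodule.span ℤ (S ∩ inv ρ H) := by
  classical
  haveI : IsNoetherian ℤ A := isNoetherian_of_isNoetherianRing_of_finite ℤ A
  have hfg : ∀ H : Subgroup G, ∃ T : Finset A, Submodule.span ℤ (T : Set A) = inv ρ H :=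
    fun H => IsNoetherian.noetherian (inv ρ H)
  choose T hT using hfg
  set S0 : Set A := ⋃ H : Subgroup G, (T H : Set A) with hS0
  have hS0fin : S0.Finite := Set.finite_iUnion (fun H => (T H).finite_toSet)
  refine ⟨⋃ g : G, (ρ g) '' S0, Set.finite_iUnion (fun g => hS0fin.image _), ?_, ?_⟩
  · intro g s hs
    obtain ⟨g', t, ht, rfl⟩ := Set.mem_iUnion.1 hs
    refine Set.mem_iUnion.2 ⟨g * g', t, ht, ?_⟩
    simp [map_mul]
  · intro H
    rw [← hT H]
    apply Submodule.span_mono
    intro t ht
    refine ⟨Set.mem_iUnion.2 ⟨1, t, Set.mem_iUnion.2 ⟨H, ht⟩, by simp⟩, ?_⟩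
    exact Submodule.subset_span ht

/-- The action of `G` on a stable subset. -/
def stableMulAction (S : Set A) (hS : ∀ (g : G), ∀ s ∈ S, ρ g s ∈ S) : MulAction G S where
  smul g s := ⟨ρ g s.1, hS g s.1 s.2⟩
  one_smul s := Subtype.ext (by show ρ 1 s.1 = s.1; simp)
  mul_smul g h s := Subtype.ext (by show ρ (g * h) s.1 = ρ g (ρ h s.1); simp [map_mul])

/-- The key construction: a permutation module mapping onto `A`, onto on all invariants. -/
theorem exists_perm_cover [Finite G] [Module.Finite ℤ A] :
    ∃ (S : Type) (_ : MulAction G S) (_ : Finite S) (π : (S →₀ ℤ) →ₗ[ℤ] A),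
      IsEquivariant (permRep S) ρ π ∧ Function.Surjective π ∧
      ∀ (H : Subgroup G) (a : A), (∀ h : H, ρ (h : G) a = a) →
        ∃ p : S →₀ ℤ, π p = a ∧ ∀ h : H, permRep S (h : G) p = p := by
  classical
  obtain ⟨S, hfin, hstab, hgen⟩ := exists_stable_gens ρ
  letI : MulAction G S := stableMulAction ρ S hstab
  haveI : Finite S := hfin.to_subtype
  have hsmul : ∀ (g : G) (s : S), ((g • s : S) : A) = ρ g s.1 := fun g s => rfl
  set π : (S →₀ ℤ) →ₗ[ℤ] A := Finsupp.linearCombination ℤ (Subtype.val : S → A) with hπ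
  have hequiv : IsEquivariant (permRep S) ρ π := by
    intro g m
    induction m using Finsupp.induction_linear with
    | zero => simp
    | add x y hx hy => rw [map_add, map_add, map_add, map_add, hx, hy]
    | single s r =>
      rw [permRep_single, hπ, Finsupp.linearCombination_single, Finsupp.linearCombination_single,
        hsmul, map_smul]
  have hinvs : ∀ (H : Subgroup G) (a : A), (∀ h : H, ρ (h : G) a = a) →
      ∃ p : S →₀ ℤ, π p = a ∧ ∀ h : H, permRep S (h : G) p = p := by
    intro H a ha
    have ha' : a ∈ Submodule.span ℤ (S ∩ inv ρ H) := hgen H ha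
    clear ha
    induction ha' using Submodule.span_induction with
    | mem x hx =>
      refine ⟨Finsupp.single ⟨x, hx.1⟩ 1, by simp [hπ], fun h => ?_⟩
      rw [permRep_single]
      congr 1
      exact Subtype.ext (hx.2 h)
    | zero => exact ⟨0, by simp, fun h => by simp⟩
    | add x y _ _ hx hy =>
      obtain ⟨p, hp, hp'⟩ := hx
      obtain ⟨q, hq, hq'⟩ := hy
      exact ⟨p + q, by rw [map_add, hp, hq], fun h => by rw [map_add, hp', hq']⟩
    | smul c x _ hx =>
      obtain ⟨p, hp, hp'⟩ := hx
      exact ⟨c • p, by rw [map_smul, hp], fun h => by rw [map_smul, hp']⟩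
  refine ⟨S, inferInstance, inferInstance, π, hequiv, ?_, hinvs⟩
  intro a
  obtain ⟨p, hp, -⟩ := hinvs ⊥ a (fun h => by
    have : (h : G) = 1 := by
      have := h.2; rwa [Subgroup.mem_bot] at this
    rw [this]; simp)
  exact ⟨p, hp⟩

end

/-- Coflasque cover: `0 → Q → P → A → 0` with `P` permutation, `Q` coflasque. -/
theorem coflasque_cover [Finite G] (A : Type) [AddCommGroup A] [Module.Finite ℤ A]
    (ρ : Representation ℤ G A) :
    ∃ (Q : Type) (_ : AddCommGroup Q) (P : Type) (_ : AddCommGroup P)
      (_ : Module.Finite ℤ Q) (_ : Module.Free ℤ Q) (_ : Module.Finite ℤ P) (_ : Module.Free ℤ P)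
      (σ : Representation ℤ G Q) (τ : Representation ℤ G P) (i : Q →ₗ[ℤ] P) (π : P →ₗ[ℤ] A),
      GLat.IsEquivariant σ τ i ∧ GLat.IsEquivariant τ ρ π ∧ Function.Injective i ∧ Function.Surjective π ∧
      LinearMap.range i = LinearMap.ker π ∧ GLat.IsPermutation τ ∧ GLat.IsCoflasque σ ∧
      GLat.IsFlasque τ ∧ GLat.IsCoflasque τ := by
  classical
  obtain ⟨S, hact, hfin, π, hequiv, hsurj, hinvs⟩ := exists_perm_cover ρ
  have hle : ∀ g : G, LinearMap.ker π ≤ (LinearMap.ker π).comap (permRep (G := G) S g) := by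
    intro g x hx
    rw [Submodule.mem_comap, LinearMap.mem_ker, hequiv, LinearMap.mem_ker.1 hx, map_zero]
  haveI : IsNoetherian ℤ (S →₀ ℤ) := isNoetherian_of_isNoetherianRing_of_finite ℤ _
  have hiequiv : IsEquivariant ((permRep (G := G) S).subrepresentation (LinearMap.ker π) hle) (permRep S)
      (LinearMap.ker π).subtype := fun g m => rfl
  have hex : LinearMap.range (LinearMap.ker π).subtype = LinearMap.ker π := Submodule.range_subtype _
  refine ⟨LinearMap.ker π, inferInstance, S →₀ ℤ, inferInstance, inferInstance, inferInstance,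
    inferInstance, inferInstance, (permRep (G := G) S).subrepresentation (LinearMap.ker π) hle, permRep S,
    (LinearMap.ker π).subtype, π, hiequiv, hequiv, Subtype.val_injective, hsurj, hex,
    isPermutation_permRep, ?_, permRep_isFlasque, permRep_isCoflasque⟩
  exact isCoflasque_ker hiequiv hequiv Subtype.val_injective hex permRep_isCoflasque hinvs

end Helper18.GLat
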