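import Groth.Agent.Lib.Helper18.GLat.Cover

/-!
# Duality for `Ĥ⁰` of a lattice, in elementary form (helper18)
-/

open GLat

namespace Helper18.GLat

variable {G : Type} [Group G] {A : Type} [AddCommGroup A]

/-- Lifting a character of a free abelian group to a rational-valued functional. -/
theorem exists_lift_character [Module.Finite ℤ A] [Module.Free ℤ A]
    (c : A →+ AddCircle (1 : ℚ)) :
    ∃ ψ : A →ₗ[ℤ] ℚ, ∀ x, ((ψ x : ℚ) : AddCircle (1 : ℚ)) = c x := by
  classical
  let b := Module.Free.chooseBasis ℤ A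
  have hq : ∀ k, ∃ q : ℚ, (q : AddCircle (1 : ℚ)) = c (b k) :=
    fun k => QuotientAddGroup.mk_surjective (c (b k))
  choose q hq using hq
  refine ⟨b.constr ℤ q, fun x => ?_⟩
  have h1 : ((QuotientAddGroup.mk' (AddSubgroup.zmultiples (1 : ℚ))).toIntLinearMap ∘ₗ
      (b.constr ℤ q)) = c.toIntLinearMap := by
    apply b.ext
    intro k
    simp only [LinearMap.coe_comp, Function.comp_apply, Module.Basis.constr_basis,
      AddMonoidHom.coe_toIntLinearMap, QuotientAddGroup.mk'_apply]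
    exact hq k
  exact LinearMap.congr_fun h1 x

/-- A rational-valued functional with integral values is an integral functional. -/
theorem exists_int_functional [Module.Finite ℤ A] [Module.Free ℤ A] (Ψ : A →ₗ[ℤ] ℚ)
    (hΨ : ∀ x, ∃ z : ℤ, (z : ℚ) = Ψ x) :
    ∃ φ : A →ₗ[ℤ] ℤ, ∀ x, ((φ x : ℤ) : ℚ) = Ψ x := by
  classical
  let b := Module.Free.chooseBasis ℤ A
  choose z hz using fun k => hΨ (b k)
  refine ⟨b.constr ℤ z, fun x => ?_⟩
  have h1 : (Int.castAddHom ℚ).toIntLinearMap ∘ₗ (b.constr ℤ z) = Ψ := by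
    apply b.ext
    intro k
    simp only [LinearMap.coe_comp, Function.comp_apply, Module.Basis.constr_basis,
      AddMonoidHom.coe_toIntLinearMap, Int.coe_castAddHom]
    exact hz k
  exact LinearMap.congr_fun h1 x

/-- `Ĥ⁰`-duality, injectivity part: an invariant element on which all invariant functionals take
values divisible by `|H|` is a norm. -/
theorem exists_norm_eq_of_forall_dvd [Module.Finite ℤ A] [Module.Free ℤ A]
    (ρ : Representation ℤ G A) (H : Subgroup G) [Fintype H] (a : A)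
    (ha : ∀ h : H, ρ (h : G) a = a)
    (hdvd : ∀ ψ : A →ₗ[ℤ] ℤ, (∀ (h : H) (x : A), ψ (ρ (h : G) x) = ψ x) →
      (Fintype.card H : ℤ) ∣ ψ a) :
    ∃ x, a = normLin ρ H x := by
  classical
  by_contra hne
  push_neg at hne
  set N : Submodule ℤ A := LinearMap.range (normLin ρ H) with hN
  have h0 : N.mkQ a ≠ 0 := by
    intro h
    rw [Submodule.mkQ_apply, Submodule.Quotient.mk_eq_zero] at h
    obtain ⟨x, hx⟩ := h
    exact hne x hx.symm
  obtain ⟨c, hc⟩ := CharacterModule.exists_character_apply_ne_zero_of_ne_zero h0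
  let c' : A →+ AddCircle (1 : ℚ) := (show (A ⧸ N) →+ AddCircle (1 : ℚ) from c).comp
    N.mkQ.toAddMonoidHom
  have hc'N : ∀ x, c' (normLin ρ H x) = 0 := by
    intro x
    show c (N.mkQ (normLin ρ H x)) = 0
    have : N.mkQ (normLin ρ H x) = 0 := by
      rw [Submodule.mkQ_apply, Submodule.Quotient.mk_eq_zero]
      exact ⟨x, rfl⟩
    rw [this, map_zero]
  have hc'a : c' a ≠ 0 := hc
  obtain ⟨ψ', hψ'⟩ := exists_lift_character c'
  obtain ⟨φ, hφ⟩ := exists_int_functional (ψ' ∘ₗ normLin ρ H) (fun x => by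
    have := hc'N x
    rw [← hψ', AddCircle.coe_eq_zero_iff] at this
    obtain ⟨n, hn⟩ := this
    exact ⟨n, by simpa using hn⟩)
  have hφinv : ∀ (h : H) (x : A), φ (ρ (h : G) x) = φ x := by
    intro h x
    have : ((φ (ρ (h : G) x) : ℤ) : ℚ) = ((φ x : ℤ) : ℚ) := by
      rw [hφ, hφ, LinearMap.comp_apply, LinearMap.comp_apply, normLin_rho]
    exact_mod_cast this
  obtain ⟨z, hz⟩ := hdvd φ hφinv
  have h2 : ((φ a : ℤ) : ℚ) = (Fintype.card H : ℚ) * ψ' a := by
    rw [hφ, LinearMap.comp_apply, normLin_of_inv ρ H a ha, map_smul]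
    simp
  have hcard : (Fintype.card H : ℚ) ≠ 0 := by exact_mod_cast Fintype.card_ne_zero
  have h3 : ψ' a = (z : ℚ) := by
    rw [hz] at h2
    push_cast at h2
    exact (mul_left_cancel₀ hcard h2).symm
  apply hc'a
  rw [← hψ', h3, AddCircle.coe_eq_zero_iff]
  exact ⟨z, by simp⟩

end Helper18.GLat
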