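import Groth.Agent.Lib.Helper18.GLat.Dual

/-!
# Embedding a lattice into a permutation lattice with flasque cokernel (helper18)
-/

open GLat

namespace Helper18.GLat

variable {G : Type} [Group G] {A : Type} [AddCommGroup A]

/-- The key construction for flasque resolutions. -/
theorem exists_perm_embedding [Finite G] [Module.Finite ℤ A] [Module.Free ℤ A]
    (ρ : Representation ℤ G A) :
    ∃ (S : Type) (_ : MulAction G S) (_ : Finite S) (i : A →ₗ[ℤ] (S →₀ ℤ)),
      IsEquivariant ρ (permRep S) i ∧ Function.Injective i ∧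
      (∀ (r : ℤ) (p : S →₀ ℤ), r ≠ 0 → r • p ∈ LinearMap.range i → p ∈ LinearMap.range i) ∧
      ∀ (H : Subgroup G) [Fintype H] (a : A) (p : S →₀ ℤ), i a = normLin (permRep S) H p →
        ∃ x : A, a = normLin ρ H x := by
  classical
  obtain ⟨Φ, hfin, hstab, hgen⟩ := exists_stable_gens ρ.dual
  letI : MulAction G Φ := stableMulAction ρ.dual Φ hstab
  haveI : Finite Φ := hfin.to_subtype
  haveI : Fintype Φ := Fintype.ofFinite Φ
  have hsmul : ∀ (g : G) (s : Φ) (x : A), ((g • s : Φ) : Module.Dual ℤ A) x = s.1 (ρ g⁻¹ x) :=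
    fun g s x => rfl
  set i : A →ₗ[ℤ] (Φ →₀ ℤ) := (Finsupp.linearEquivFunOnFinite ℤ ℤ Φ).symm.toLinearMap ∘ₗ
    LinearMap.pi (fun φ : Φ => φ.1) with hi
  have hiapp : ∀ (a : A) (φ : Φ), i a φ = φ.1 a := fun a φ => by
    simp [hi]
  have hequiv : IsEquivariant ρ (permRep Φ) i := by
    intro g a
    ext φ
    rw [permRep_apply, hiapp, hiapp, hsmul, inv_inv]
  -- all functionals are combinations of elements of `Φ`
  have hspan : Submodule.span ℤ (Φ : Set (Module.Dual ℤ A)) = ⊤ := by
    rw [eq_top_iff]
    intro ψ _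
    have h1 : ψ ∈ inv ρ.dual (⊥ : Subgroup G) := by
      intro h
      have : (h : G) = 1 := by
        have := h.2; rwa [Subgroup.mem_bot] at this
      rw [this, map_one]; rfl
    exact Submodule.span_mono Set.inter_subset_left (hgen ⊥ h1)
  have hinj : Function.Injective i := by
    rw [← LinearMap.ker_eq_bot, LinearMap.ker_eq_bot']
    intro a ha
    rw [← Module.forall_dual_apply_eq_zero_iff ℤ]
    intro ψ
    have hψ : ψ ∈ Submodule.span ℤ (Φ : Set (Module.Dual ℤ A)) := hspan ▸ Submodule.mem_top
    induction hψ using Submodule.span_induction with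
    | mem x hx =>
      have := hiapp a ⟨x, hx⟩
      rw [ha] at this
      exact this.symm
    | zero => rfl
    | add x y _ _ hx hy => rw [LinearMap.add_apply, hx, hy, add_zero]
    | smul c x _ hx => rw [LinearMap.smul_apply, hx, smul_zero]
  refine ⟨Φ, inferInstance, inferInstance, i, hequiv, hinj, ?_, ?_⟩
  · -- torsion-free cokernel
    rintro r p hr ⟨a, ha⟩
    have hdvd : ∀ ψ : Module.Dual ℤ A, r ∣ ψ a := by
      intro ψ
      have hψ : ψ ∈ Submodule.span ℤ (Φ : Set (Module.Dual ℤ A)) := hspan ▸ Submodule.mem_top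
      induction hψ using Submodule.span_induction with
      | mem x hx =>
        have := hiapp a ⟨x, hx⟩
        rw [ha] at this
        exact ⟨p ⟨x, hx⟩, by rw [← this]; simp⟩
      | zero => simp
      | add x y _ _ hx hy => rw [LinearMap.add_apply]; exact dvd_add hx hy
      | smul c x _ hx => rw [LinearMap.smul_apply]; exact Dvd.dvd.mul_left hx c
    let b := Module.Free.chooseBasis ℤ A
    have hcoord : ∀ k, ∃ z : ℤ, b.repr a k = r * z := fun k => hdvd (b.coord k)
    choose z hz using hcoord
    refine ⟨∑ k, z k • b k, ?_⟩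
    have h2 : r • (∑ k, z k • b k) = a := by
      conv_rhs => rw [← b.sum_repr a]
      rw [Finset.smul_sum]
      refine Finset.sum_congr rfl (fun k _ => ?_)
      rw [hz k, mul_smul]
    have h3 : r • i (∑ k, z k • b k) = r • p := by
      rw [← map_smul, h2, ha]
    exact smul_right_injective _ hr h3
  · intro H _ a p hap
    have ha : ∀ h : H, ρ (h : G) a = a := by
      intro h
      apply hinj
      rw [hequiv, hap, rho_normLin]
    refine exists_norm_eq_of_forall_dvd ρ H a ha (fun ψ hψ => ?_)
    have h1 : ψ ∈ inv ρ.dual H := by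
      intro h
      ext x
      show ψ (ρ ((h : G)⁻¹) x) = ψ x
      exact hψ h⁻¹ x
    have h2 := hgen H h1
    clear h1 hψ
    induction h2 using Submodule.span_induction with
    | mem x hx =>
      have h3 := hiapp a ⟨x, hx.1⟩
      rw [hap, normLin_apply, Finsupp.coe_finset_sum, Finset.sum_apply] at h3
      have h4 : ∀ h : H, (permRep Φ (h : G) p) ⟨x, hx.1⟩ = p ⟨x, hx.1⟩ := by
        intro h
        rw [permRep_apply]
        congr 1
        apply Subtype.ext
        have := hx.2 h⁻¹
        exact this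
      simp_rw [h4] at h3
      rw [Finset.sum_const, Finset.card_univ, nsmul_eq_mul] at h3
      exact ⟨p ⟨x, hx.1⟩, h3.symm⟩
    | zero => simp
    | add x y _ _ hx hy => rw [LinearMap.add_apply]; exact dvd_add hx hy
    | smul c x _ hx => rw [LinearMap.smul_apply]; exact Dvd.dvd.mul_left hx c

end Helper18.GLat
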