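import Groth.Agent.Lib.Helper18.GLat.Perm

/-!
# Exactness properties of `H¹` and `Ĥ⁻¹` in elementary form (helper18)
-/

open GLat

namespace Helper18.GLat

variable {G : Type} [Group G]

section
variable {Q' Q L : Type} [AddCommGroup Q'] [AddCommGroup Q] [AddCommGroup L]
  {σ' : Representation ℤ G Q'} {σ : Representation ℤ G Q} {τ : Representation ℤ G L}
  {i : Q' →ₗ[ℤ] Q} {π : Q →ₗ[ℤ] L}

/-- `H¹` is exact in the middle: an extension of a coflasque module by a coflasque module is
coflasque. -/
theorem isCoflasque_of_exact (hi : IsEquivariant σ' σ i) (hπ : IsEquivariant σ τ π)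
    (hinj : Function.Injective i) (hsurj : Function.Surjective π)
    (hex : LinearMap.range i = LinearMap.ker π) (h1 : IsCoflasque σ') (h2 : IsCoflasque τ) :
    IsCoflasque σ := by
  intro H f hf
  obtain ⟨l, hl⟩ := h2 H (fun a => π (f a)) (fun a b => by
    show π (f (a * b)) = π (f a) + τ (a : G) (π (f b))
    rw [hf, map_add, hπ])
  obtain ⟨q0, rfl⟩ := hsurj l
  have hker : ∀ a : H, f a - (σ (a : G) q0 - q0) ∈ LinearMap.range i := by
    intro a
    rw [hex, LinearMap.mem_ker, map_sub, map_sub, hπ, hl a, sub_self]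
  choose f'' hf'' using hker
  obtain ⟨q', hq'⟩ := h1 H f'' (fun a b => by
    apply hinj
    rw [map_add, hi, hf'', hf'', hf'', hf a b]
    simp only [map_sub, map_mul, Subgroup.coe_mul, Module.End.mul_apply]
    abel)
  refine ⟨i q' + q0, fun a => ?_⟩
  have := hf'' a
  rw [hq' a, map_sub, hi] at this
  rw [map_add]
  have h3 : f a = (σ (a : G) (i q') - i q') + (σ (a : G) q0 - q0) := by
    rw [this]; abel
  rw [h3]; abel

/-- `Ĥ⁻¹` is exact in the middle: an extension of a flasque module by a flasque module is flasque. -/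
theorem isFlasque_of_exact [Finite G] (hi : IsEquivariant σ' σ i) (hπ : IsEquivariant σ τ π)
    (hinj : Function.Injective i) (hsurj : Function.Surjective π)
    (hex : LinearMap.range i = LinearMap.ker π) (h1 : IsFlasque σ') (h2 : IsFlasque τ) :
    IsFlasque σ := by
  intro H x hx
  haveI := Fintype.ofFinite H
  rw [finsum_eq] at hx
  change x ∈ augSpan σ H
  have h3 : π x ∈ augSpan τ H := by
    apply h2 H (π x)
    rw [finsum_eq, ← equiv_normLin hπ, hx, map_zero]
  obtain ⟨y, hy, hyx⟩ := equiv_augSpan_le_map hπ hsurj H h3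
  have h4 : x - y ∈ LinearMap.range i := by
    rw [hex, LinearMap.mem_ker, map_sub, hyx, sub_self]
  obtain ⟨l, hl⟩ := h4
  have h5 : normLin σ' H l = 0 := by
    apply hinj
    rw [equiv_normLin hi, hl, map_sub, hx, normLin_eq_zero_of_mem_augSpan _ _ hy, sub_zero, map_zero]
  have h6 : l ∈ augSpan σ' H := by
    apply h1 H l
    rw [finsum_eq, h5]
  have h7 : i l ∈ augSpan σ H := equiv_map_augSpan_le hi H ⟨l, h6, rfl⟩
  have : x = i l + y := by rw [hl]; abel
  rw [this]
  exact add_mem h7 hy

end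

section
variable {Q P A : Type} [AddCommGroup Q] [AddCommGroup P] [AddCommGroup A]
  {σ : Representation ℤ G Q} {τ : Representation ℤ G P} {ρ : Representation ℤ G A}
  {i : Q →ₗ[ℤ] P} {π : P →ₗ[ℤ] A}

/-- If `P` is coflasque and `P^H → A^H` is onto for all `H`, the kernel of `P → A` is coflasque. -/
theorem isCoflasque_ker (hi : IsEquivariant σ τ i) (hπ : IsEquivariant τ ρ π)
    (hinj : Function.Injective i) (hex : LinearMap.range i = LinearMap.ker π)
    (hP : IsCoflasque τ)
    (hinv : ∀ (H : Subgroup G) (a : A), (∀ h : H, ρ (h : G) a = a) →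
      ∃ p : P, π p = a ∧ ∀ h : H, τ (h : G) p = p) :
    IsCoflasque σ := by
  intro H f hf
  obtain ⟨p, hp⟩ := hP H (fun a => i (f a)) (fun a b => by
    show i (f (a * b)) = i (f a) + τ (a : G) (i (f b))
    rw [hf, map_add, hi])
  have hker : ∀ q : Q, π (i q) = 0 := fun q => by
    have : i q ∈ LinearMap.ker π := hex ▸ LinearMap.mem_range_self i q
    exact this
  obtain ⟨p', hp', hinv'⟩ := hinv H (π p) (fun h => by
    have := hp h
    have h2 : π (τ (h : G) p - p) = 0 := by rw [← this]; exact hker _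
    rw [map_sub, hπ, sub_eq_zero] at h2
    exact h2)
  have h3 : p - p' ∈ LinearMap.range i := by
    rw [hex, LinearMap.mem_ker, map_sub, hp', sub_self]
  obtain ⟨q, hq⟩ := h3
  refine ⟨q, fun a => hinj ?_⟩
  rw [map_sub, hi, hq, map_sub, hinv' a, hp a]
  abel

end

section
variable {A P F : Type} [AddCommGroup A] [AddCommGroup P] [AddCommGroup F]
  {ρ : Representation ℤ G A} {σ : Representation ℤ G P} {τ : Representation ℤ G F}
  {i : A →ₗ[ℤ] P} {π : P →ₗ[ℤ] F}

/-- If `P` is flasque and `Ĥ⁰(H, A) → Ĥ⁰(H, P)` is injective for all `H`, the cokernel of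
`A → P` is flasque. -/
theorem isFlasque_coker [Finite G] (hi : IsEquivariant ρ σ i) (hπ : IsEquivariant σ τ π)
    (hsurj : Function.Surjective π) (hex : LinearMap.range i = LinearMap.ker π)
    (hP : IsFlasque σ)
    (hnorm : ∀ (H : Subgroup G) [Fintype H] (a : A) (p : P), i a = normLin σ H p →
      ∃ x : A, a = normLin ρ H x) :
    IsFlasque τ := by
  intro H xbar hx
  haveI := Fintype.ofFinite H
  rw [finsum_eq] at hx
  change xbar ∈ augSpan τ H
  obtain ⟨x, rfl⟩ := hsurj xbar
  have h1 : normLin σ H x ∈ LinearMap.range i := by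
    rw [hex, LinearMap.mem_ker, equiv_normLin hπ, hx]
  obtain ⟨a, ha⟩ := h1
  obtain ⟨y, hy⟩ := hnorm H a x ha
  have h2 : normLin σ H (x - i y) = 0 := by
    rw [map_sub, ← ha, ← equiv_normLin hi, ← hy, sub_self]
  have h3 : x - i y ∈ augSpan σ H := by
    apply hP H
    rw [finsum_eq, h2]
  have h4 : π (i y) = 0 := by
    have : i y ∈ LinearMap.ker π := hex ▸ LinearMap.mem_range_self i y
    exact this
  have h5 : π x = π (x - i y) := by rw [map_sub, h4, sub_zero]
  rw [h5]
  exact equiv_map_augSpan_le hπ H ⟨_, h3, rfl⟩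

end

end Helper18.GLat
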