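import Groth.Agent.Lib.Helper18.GLat.Embed

/-!
# Flasque resolutions (helper18)
-/

open GLat

namespace Helper18.GLat

variable {G : Type} [Group G]

/-- Flasque resolution of a lattice: `0 → A → P → F → 0`. -/
theorem flasque_resolution [Finite G] (A : Type) [AddCommGroup A] [Module.Finite ℤ A]
    [Module.Free ℤ A] (ρ : Representation ℤ G A) :
    ∃ (P : Type) (_ : AddCommGroup P) (F : Type) (_ : AddCommGroup F)
      (_ : Module.Finite ℤ P) (_ : Module.Free ℤ P) (_ : Module.Finite ℤ F) (_ : Module.Free ℤ F)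
      (σ : Representation ℤ G P) (τ : Representation ℤ G F) (i : A →ₗ[ℤ] P) (π : P →ₗ[ℤ] F),
      GLat.IsEquivariant ρ σ i ∧ GLat.IsEquivariant σ τ π ∧ Function.Injective i ∧ Function.Surjective π ∧
      LinearMap.range i = LinearMap.ker π ∧ GLat.IsPermutation σ ∧ GLat.IsFlasque τ := by
  classical
  obtain ⟨S, hact, hfin, i, hequiv, hinj, htf, hnorm⟩ := exists_perm_embedding ρ
  set W : Submodule ℤ (S →₀ ℤ) := LinearMap.range i with hW
  have hle : ∀ g : G, W ≤ W.comap (permRep (G := G) S g) := by
    rintro g _ ⟨a, rfl⟩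
    exact ⟨ρ g a, hequiv g a⟩
  have hπequiv : IsEquivariant (permRep (G := G) S) ((permRep (G := G) S).quotient W hle) W.mkQ :=
    fun g m => rfl
  have hex : LinearMap.range i = LinearMap.ker W.mkQ := by rw [Submodule.ker_mkQ]
  haveI : Module.IsTorsionFree ℤ ((S →₀ ℤ) ⧸ W) := by
    apply Module.IsTorsionFree.of_smul_eq_zero
    intro r m hrm
    obtain ⟨p, rfl⟩ := Submodule.Quotient.mk_surjective W m
    by_cases hr : r = 0
    · exact Or.inl hr
    · right
      rw [← Submodule.Quotient.mk_smul, Submodule.Quotient.mk_eq_zero] at hrm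
      rw [Submodule.Quotient.mk_eq_zero]
      exact htf r p hr hrm
  refine ⟨S →₀ ℤ, inferInstance, (S →₀ ℤ) ⧸ W, inferInstance, inferInstance, inferInstance,
    inferInstance, inferInstance, permRep S, (permRep (G := G) S).quotient W hle, i, W.mkQ,
    hequiv, hπequiv, hinj, Submodule.mkQ_surjective W, hex, isPermutation_permRep, ?_⟩
  exact isFlasque_coker hequiv hπequiv (Submodule.mkQ_surjective W) hex permRep_isFlasque
    (fun H _ a p h => hnorm H a p h)

end Helper18.GLat
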