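import Groth.Agent.Lib.Helper18.GLat.Flasque

/-!
# Flasque covers (helper18): push a flasque resolution of the kernel of a permutation cover out.
-/

open GLat

namespace Helper18.GLat

variable {G : Type} [Group G]

/-- Flasque cover of a finitely generated `G`-module: `0 → P → F → A → 0`. -/
theorem flasque_cover [Finite G] (A : Type) [AddCommGroup A] [Module.Finite ℤ A]
    (ρ : Representation ℤ G A) :
    ∃ (P : Type) (_ : AddCommGroup P) (F : Type) (_ : AddCommGroup F)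
      (_ : Module.Finite ℤ P) (_ : Module.Free ℤ P) (_ : Module.Finite ℤ F) (_ : Module.Free ℤ F)
      (σ : Representation ℤ G P) (τ : Representation ℤ G F) (i : P →ₗ[ℤ] F) (π : F →ₗ[ℤ] A),
      GLat.IsEquivariant σ τ i ∧ GLat.IsEquivariant τ ρ π ∧ Function.Injective i ∧ Function.Surjective π ∧
      LinearMap.range i = LinearMap.ker π ∧ GLat.IsPermutation σ ∧ GLat.IsFlasque τ := by
  classical
  obtain ⟨Q0, iQ0, P0, iP0, fQ0, frQ0, fP0, frP0, σ0, τ0, i0, π0, hi0equiv, hπ0equiv, hi0inj,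
    hπ0surj, hex0, -, -, hP0fl, -⟩ := coflasque_cover A ρ
  obtain ⟨P1, iP1, F', iF', fP1, frP1, fF', frF', σ1, τ1, j, π1, hjequiv, hπ1equiv, hjinj, hπ1surj,
    hex1, hperm1, hF'fl⟩ := flasque_resolution Q0 σ0
  have hπ0i0 : ∀ q, π0 (i0 q) = 0 := fun q => by
    have : i0 q ∈ LinearMap.ker π0 := hex0 ▸ LinearMap.mem_range_self i0 q
    exact this
  have hπ1j : ∀ q, π1 (j q) = 0 := fun q => by
    have : j q ∈ LinearMap.ker π1 := hex1 ▸ LinearMap.mem_range_self j q
    exact this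
  -- the pushout
  set d : Q0 →ₗ[ℤ] (P1 × P0) := LinearMap.prod j (-i0) with hd
  have hdapp : ∀ q, d q = (j q, -i0 q) := fun q => rfl
  set W : Submodule ℤ (P1 × P0) := LinearMap.range d with hW
  set R : Representation ℤ G (P1 × P0) := σ1.prod τ0 with hR
  have hRapp : ∀ (g : G) (x : P1 × P0), R g x = (σ1 g x.1, τ0 g x.2) := fun g x => rfl
  have hle : ∀ g : G, W ≤ W.comap (R g) := by
    rintro g _ ⟨q, rfl⟩
    refine ⟨σ0 g q, ?_⟩
    rw [hdapp, hRapp, hdapp]
    show (j (σ0 g q), -i0 (σ0 g q)) = (σ1 g (j q), τ0 g (-i0 q))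
    rw [hjequiv, hi0equiv, map_neg]
  set τ : Representation ℤ G ((P1 × P0) ⧸ W) := R.quotient W hle with hτ
  have hτapp : ∀ (g : G) (x : P1 × P0), τ g (W.mkQ x) = W.mkQ (R g x) := fun g x => rfl
  -- maps
  set u : P1 →ₗ[ℤ] ((P1 × P0) ⧸ W) := W.mkQ ∘ₗ LinearMap.inl ℤ _ _ with hu
  have huapp : ∀ p, u p = W.mkQ (p, 0) := fun p => rfl
  set u0 : P0 →ₗ[ℤ] ((P1 × P0) ⧸ W) := W.mkQ ∘ₗ LinearMap.inr ℤ _ _ with hu0
  have hu0app : ∀ p, u0 p = W.mkQ (0, p) := fun p => rfl
  have hvle : W ≤ LinearMap.ker (π0 ∘ₗ LinearMap.snd ℤ P1 P0) := by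
    rintro _ ⟨q, rfl⟩
    rw [LinearMap.mem_ker, hdapp]
    show π0 (-i0 q) = 0
    rw [map_neg, hπ0i0, neg_zero]
  set v : ((P1 × P0) ⧸ W) →ₗ[ℤ] A := W.liftQ (π0 ∘ₗ LinearMap.snd ℤ P1 P0) hvle with hv
  have hvapp : ∀ x : P1 × P0, v (W.mkQ x) = π0 x.2 := fun x => rfl
  have hv1le : W ≤ LinearMap.ker (π1 ∘ₗ LinearMap.fst ℤ P1 P0) := by
    rintro _ ⟨q, rfl⟩
    rw [LinearMap.mem_ker, hdapp]
    show π1 (j q) = 0
    exact hπ1j q
  set v1 : ((P1 × P0) ⧸ W) →ₗ[ℤ] F' := W.liftQ (π1 ∘ₗ LinearMap.fst ℤ P1 P0) hv1le with hv1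
  have hv1app : ∀ x : P1 × P0, v1 (W.mkQ x) = π1 x.1 := fun x => rfl
  have hmk0 : ∀ x : P1 × P0, W.mkQ x = 0 ↔ ∃ q, (j q, -i0 q) = x := by
    intro x
    rw [Submodule.mkQ_apply, Submodule.Quotient.mk_eq_zero]
    rfl
  -- the first sequence
  have huequiv : IsEquivariant σ1 τ u := by
    intro g p
    rw [huapp, huapp, hτapp, hRapp]
    show W.mkQ (σ1 g p, 0) = W.mkQ (σ1 g p, τ0 g 0)
    rw [map_zero]
  have hvequiv : IsEquivariant τ ρ v := by
    intro g x
    obtain ⟨x, rfl⟩ := Submodule.mkQ_surjective W x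
    rw [hτapp, hvapp, hvapp, hRapp]
    exact hπ0equiv g x.2
  have huinj : Function.Injective u := by
    rw [← LinearMap.ker_eq_bot, LinearMap.ker_eq_bot']
    intro p hp
    rw [huapp, hmk0] at hp
    obtain ⟨q, hq⟩ := hp
    have h1 : -i0 q = 0 := congrArg Prod.snd hq
    have h2 : q = 0 := hi0inj (by rw [map_zero, ← neg_eq_zero, h1])
    have h3 : j q = p := congrArg Prod.fst hq
    rw [← h3, h2, map_zero]
  have hvsurj : Function.Surjective v := by
    intro a
    obtain ⟨p0, rfl⟩ := hπ0surj a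
    exact ⟨W.mkQ (0, p0), rfl⟩
  have hexu : LinearMap.range u = LinearMap.ker v := by
    ext x
    constructor
    · rintro ⟨p, rfl⟩
      rw [LinearMap.mem_ker, huapp, hvapp, map_zero]
    · intro hx
      obtain ⟨x, rfl⟩ := Submodule.mkQ_surjective W x
      rw [LinearMap.mem_ker, hvapp] at hx
      have : x.2 ∈ LinearMap.range i0 := by rw [hex0]; exact hx
      obtain ⟨q, hq⟩ := this
      refine ⟨x.1 + j q, ?_⟩
      rw [huapp, ← sub_eq_zero, ← map_sub, hmk0]
      refine ⟨q, ?_⟩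
      ext
      · simp
      · simp [hq]
  -- the second sequence and flasqueness
  have hu0equiv : IsEquivariant τ0 τ u0 := by
    intro g p
    rw [hu0app, hu0app, hτapp, hRapp]
    show W.mkQ (0, τ0 g p) = W.mkQ (σ1 g 0, τ0 g p)
    rw [map_zero]
  have hv1equiv : IsEquivariant τ τ1 v1 := by
    intro g x
    obtain ⟨x, rfl⟩ := Submodule.mkQ_surjective W x
    rw [hτapp, hv1app, hv1app, hRapp]
    exact hπ1equiv g x.1
  have hu0inj : Function.Injective u0 := by
    rw [← LinearMap.ker_eq_bot, LinearMap.ker_eq_bot']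
    intro p hp
    rw [hu0app, hmk0] at hp
    obtain ⟨q, hq⟩ := hp
    have h1 : j q = 0 := congrArg Prod.fst hq
    have h2 : q = 0 := hjinj (by rw [map_zero, h1])
    have h3 : -i0 q = p := congrArg Prod.snd hq
    rw [← h3, h2, map_zero, neg_zero]
  have hv1surj : Function.Surjective v1 := by
    intro a
    obtain ⟨p1, rfl⟩ := hπ1surj a
    exact ⟨W.mkQ (p1, 0), rfl⟩
  have hexu0 : LinearMap.range u0 = LinearMap.ker v1 := by
    ext x
    constructor
    · rintro ⟨p, rfl⟩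
      rw [LinearMap.mem_ker, hu0app, hv1app, map_zero]
    · intro hx
      obtain ⟨x, rfl⟩ := Submodule.mkQ_surjective W x
      rw [LinearMap.mem_ker, hv1app] at hx
      have : x.1 ∈ LinearMap.range j := by rw [hex1]; exact hx
      obtain ⟨q, hq⟩ := this
      refine ⟨x.2 + i0 q, ?_⟩
      rw [hu0app, ← sub_eq_zero, ← map_sub, hmk0]
      refine ⟨-q, ?_⟩
      ext
      · simp [hq]
      · simp
  have hFfl : IsFlasque τ :=
    isFlasque_of_exact hu0equiv hv1equiv hu0inj hv1surj hexu0 hP0fl hF'fl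
  -- freeness
  haveI : Module.IsTorsionFree ℤ F' := (Module.free_iff_isTorsionFree).1 inferInstance
  haveI : Module.IsTorsionFree ℤ P0 := (Module.free_iff_isTorsionFree).1 inferInstance
  haveI : Module.IsTorsionFree ℤ ((P1 × P0) ⧸ W) := by
    apply Module.IsTorsionFree.of_smul_eq_zero
    intro r m hrm
    obtain ⟨x, rfl⟩ := Submodule.mkQ_surjective W m
    by_cases hr : r = 0
    · exact Or.inl hr
    · right
      rw [← map_smul, hmk0] at hrm
      obtain ⟨q, hq⟩ := hrm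
      have h1 : j q = r • x.1 := congrArg Prod.fst hq
      have h2 : -i0 q = r • x.2 := congrArg Prod.snd hq
      have h3 : π1 x.1 = 0 := by
        have : r • π1 x.1 = 0 := by rw [← map_smul, ← h1, hπ1j]
        exact (smul_eq_zero_iff_right hr).1 this
      have : x.1 ∈ LinearMap.range j := by rw [hex1]; exact h3
      obtain ⟨q1, hq1⟩ := this
      have h4 : q = r • q1 := hjinj (by rw [h1, map_smul, hq1])
      have h5 : x.2 = -i0 q1 := by
        have : r • x.2 = r • (-i0 q1) := by rw [← h2, h4, map_smul, smul_neg]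
        exact smul_right_injective _ hr this
      rw [hmk0]
      exact ⟨q1, Prod.ext hq1 h5.symm⟩
  exact ⟨P1, iP1, (P1 × P0) ⧸ W, inferInstance, fP1, frP1, inferInstance, inferInstance, σ1, τ, u, v,
    huequiv, hvequiv, huinj, hvsurj, hexu, hperm1, hFfl⟩

end Helper18.GLat
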