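import Groth.Agent.Lib.Helper18.GLat.Basic

/-!
# Permutation modules are coflasque and flasque (helper18)
-/

open GLat

namespace Helper18.GLat

variable {G : Type} [Group G] {S : Type} [MulAction G S]

/-- `H¹(H, ℤ[S]) = 0` for a finite subgroup `H`: division with remainder of the averaged cocycle. -/
theorem permRep_coflasque_aux (H : Subgroup G) [Fintype H] (f : H → (S →₀ ℤ))
    (hf : ∀ a b : H, f (a * b) = f a + permRep S (a : G) (f b)) :
    ∃ m : S →₀ ℤ, ∀ a : H, f a = permRep S (a : G) m - m := by
  classical
  set n : ℤ := (Fintype.card H : ℤ) with hn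
  have hn0 : n ≠ 0 := by
    rw [hn]; exact_mod_cast Fintype.card_ne_zero
  set m0 : S →₀ ℤ := ∑ b : H, f b with hm0
  have h1 : ∀ a : H, n • f a = m0 - permRep S (a : G) m0 := by
    intro a
    have e1 : ∑ b : H, f (a * b) = m0 :=
      Fintype.sum_equiv (Equiv.mulLeft a) _ _ (fun x => rfl)
    have e2 : ∑ b : H, f (a * b) = n • f a + permRep S (a : G) m0 := by
      simp_rw [hf a]
      rw [Finset.sum_add_distrib, Finset.sum_const, Finset.card_univ, hm0, map_sum, hn]
      simp
    have e3 : m0 = n • f a + permRep S (a : G) m0 := e1.symm.trans e2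
    rw [eq_sub_iff_add_eq]; exact e3.symm
  refine ⟨-(Finsupp.mapRange (fun z : ℤ => z / n) (by simp) m0), fun a => ?_⟩
  ext s
  have h2 := DFunLike.congr_fun (h1 a) s
  simp only [Finsupp.smul_apply, Finsupp.coe_sub, Pi.sub_apply, permRep_apply, smul_eq_mul] at h2
  simp only [map_neg, Finsupp.coe_sub, Finsupp.coe_neg, Pi.sub_apply, Pi.neg_apply, permRep_apply,
    Finsupp.mapRange_apply]
  have h3 : m0 s = m0 ((a : G)⁻¹ • s) + n * f a s := by linarith
  rw [h3, Int.add_mul_ediv_left _ _ hn0]
  ring

theorem permRep_isCoflasque [Finite G] : IsCoflasque (permRep (G := G) S) := by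
  intro H f hf
  haveI := Fintype.ofFinite H
  exact permRep_coflasque_aux H f hf

/-- `Ĥ⁻¹(H, ℤ[S]) = 0`: induction on the size of the support. -/
theorem permRep_flasque_aux (H : Subgroup G) [Fintype H] :
    ∀ (k : ℕ) (m : S →₀ ℤ), m.support.card ≤ k → normLin (permRep S) H m = 0 →
      m ∈ augSpan (permRep S) H := by
  classical
  intro k
  induction k with
  | zero =>
    intro m hm _
    have : m = 0 := by
      rw [← Finsupp.support_eq_empty, ← Finset.card_eq_zero]; omega
    rw [this]; exact zero_mem _
  | succ k ih =>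
    intro m hm hN
    by_cases hm0 : m = 0
    · rw [hm0]; exact zero_mem _
    obtain ⟨s, hs⟩ : m.support.Nonempty := Finsupp.support_nonempty_iff.2 hm0
    have hms : m s ≠ 0 := Finsupp.mem_support_iff.1 hs
    -- there is `h` with `h⁻¹ s ≠ s` and `m (h⁻¹ s) ≠ 0`
    have hex : ∃ h : H, (h : G)⁻¹ • s ≠ s ∧ m ((h : G)⁻¹ • s) ≠ 0 := by
      by_contra hcon
      push_neg at hcon
      have h2 := DFunLike.congr_fun hN s
      rw [normLin_apply, Finsupp.coe_finset_sum, Finset.sum_apply] at h2
      simp only [permRep_apply, Finsupp.coe_zero, Pi.zero_apply] at h2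
      -- every term is either `m s` or `0`
      have h3 : ∀ h : H, m ((h : G)⁻¹ • s) = if (h : G)⁻¹ • s = s then m s else 0 := by
        intro h
        split_ifs with hh
        · rw [hh]
        · exact hcon h hh
      simp_rw [h3] at h2
      rw [Finset.sum_ite, Finset.sum_const_zero, add_zero, Finset.sum_const, nsmul_eq_mul] at h2
      have hpos : (0 : ℤ) < ((Finset.univ.filter (fun h : H => (h : G)⁻¹ • s = s)).card : ℤ) := by
        have : (1 : H) ∈ Finset.univ.filter (fun h : H => (h : G)⁻¹ • s = s) := by simp
        exact_mod_cast Finset.card_pos.2 ⟨1, this⟩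
      rcases mul_eq_zero.1 h2 with h4 | h4
      · omega
      · exact hms h4
    obtain ⟨h, hts, hmt⟩ := hex
    set t := (h : G)⁻¹ • s with ht
    have hst : (h : G) • t = s := by rw [ht]; simp
    set m' : S →₀ ℤ := m - m s • (Finsupp.single s 1 - Finsupp.single t 1) with hm'
    have haug : m s • (Finsupp.single s (1 : ℤ) - Finsupp.single t 1) ∈ augSpan (permRep S) H := by
      refine Submodule.smul_mem _ _ ?_
      have := sub_mem_augSpan (permRep S) H h (Finsupp.single t (1 : ℤ))
      rwa [permRep_single, hst] at this
    have hN' : normLin (permRep S) H m' = 0 := by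
      rw [hm', map_sub, hN, normLin_eq_zero_of_mem_augSpan _ _ haug, sub_zero]
    have hsupp : m'.support ⊆ m.support.erase s := by
      intro u hu
      rw [Finsupp.mem_support_iff] at hu
      rw [Finset.mem_erase, Finsupp.mem_support_iff]
      refine ⟨?_, ?_⟩
      · rintro rfl
        apply hu
        simp [hm', Finsupp.single_apply, hts, Ne.symm hts]
      · intro hmu
        apply hu
        by_cases hus : u = s
        · subst hus; simp [hm', Finsupp.single_apply, hts, Ne.symm hts]
        · by_cases hut : u = t
          · subst hut; exact absurd hmu hmt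
          · simp [hm', Finsupp.single_apply, hmu, Ne.symm hus, Ne.symm hut]
    have hcard : m'.support.card ≤ k := by
      have := Finset.card_le_card hsupp
      rw [Finset.card_erase_of_mem hs] at this
      omega
    have := ih m' hcard hN'
    have h5 : m = m' + m s • (Finsupp.single s 1 - Finsupp.single t 1) := by rw [hm']; abel
    rw [h5]
    exact add_mem this haug

theorem permRep_isFlasque [Finite G] : IsFlasque (permRep (G := G) S) := by
  intro H m hm
  haveI := Fintype.ofFinite H
  rw [finsum_eq] at hm
  exact permRep_flasque_aux H _ m le_rfl hm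

end Helper18.GLat
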